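import Mathlib

/-! # Elementary facts on finite linear groups in characteristic `p` (for Jordan's theorem). -/

set_option autoImplicit false

namespace CfsgLib.ModularJordan

variable {F V : Type*} [Field F] [AddCommGroup V] [Module F V]

theorem exists_joint_basis [IsAlgClosed F] [FiniteDimensional F V] {ι : Type*}
    (f : ι → Module.End F V) (hc : ∀ i j, Commute (f i) (f j)) (hs : ∀ i, (f i).IsSemisimple) :
    ∃ (b : Module.Basis (Fin (Module.finrank F V)) F V) (μ : ι → Fin (Module.finrank F V) → F),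
      ∀ i k, f i (b k) = μ i k • b k := by
  classical
  have h := Module.End.iSup_iInf_maxGenEigenspace_eq_top_of_iSup_maxGenEigenspace_eq_top_of_commute
    f (fun i j _ => hc i j) (fun i => Module.End.iSup_maxGenEigenspace_eq_top (f i))
  let S : Set V := {v | ∀ i, ∃ μ : F, f i v = μ • v}
  have hS : Submodule.span F S = ⊤ := by
    rw [eq_top_iff, ← h]
    refine iSup_le fun χ v hv => Submodule.subset_span fun i => ⟨χ i, ?_⟩
    have h1 := (Submodule.mem_iInf _).1 hv i
    rw [(hs i).isFinitelySemisimple.maxGenEigenspace_eq_eigenspace] at h1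
    exact Module.End.mem_eigenspace_iff.1 h1
  obtain ⟨T, hTS, hTspan, hTli⟩ := exists_linearIndependent F S
  let b0 : Module.Basis T F V := Module.Basis.mk hTli (by
    rw [Subtype.range_coe, hTspan, hS])
  haveI : Finite T := Module.Finite.finite_basis b0
  haveI := Fintype.ofFinite T
  have e : T ≃ Fin (Module.finrank F V) := Fintype.equivFinOfCardEq (by
    rw [Module.finrank_eq_card_basis b0])
  have hμ : ∀ i k, ∃ μ : F, f i ((b0.reindex e) k) = μ • (b0.reindex e) k := by
    intro i k
    have : (b0.reindex e) k ∈ S := by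
      rw [Module.Basis.reindex_apply, Module.Basis.mk_apply]
      exact hTS (e.symm k).2
    exact this i
  choose μ hμ using hμ
  exact ⟨b0.reindex e, μ, hμ⟩

variable {G : Type*} [Group G] {p : ℕ} [Fact p.Prime]

theorem semisimple_of_coprime [CharP F p] [FiniteDimensional F V] [Finite G]
    (ρ : G →* Module.End F V) (g : G) (hg : ¬ p ∣ orderOf g) : (ρ g).IsSemisimple := by
  have hne : ((orderOf g : ℕ) : F) ≠ 0 := by
    rw [Ne, CharP.cast_eq_zero_iff F p]
    exact hg
  refine Module.End.isSemisimple_of_squarefree_aeval_eq_zero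
    (p := Polynomial.X ^ orderOf g - Polynomial.C 1)
    (Polynomial.separable_X_pow_sub_C (1 : F) hne one_ne_zero).squarefree ?_
  rw [map_sub, Polynomial.aeval_X_pow, Polynomial.aeval_C, ← map_pow, pow_orderOf_eq_one, map_one,
    map_one, sub_self]

/-- The scalar elements of a linear group. -/
def scalars (ρ : G →* Module.End F V) : Subgroup G where
  carrier := {g | ∃ c : F, ρ g = c • (1 : Module.End F V)}
  one_mem' := ⟨1, by simp⟩
  mul_mem' := by
    rintro a b ⟨c, hc⟩ ⟨d, hd⟩
    exact ⟨c * d, by rw [map_mul, hc, hd, smul_mul_assoc, one_mul, smul_smul]⟩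
  inv_mem' := by
    rintro a ⟨c, hc⟩
    refine ⟨c⁻¹, ?_⟩
    have h1 : ρ a⁻¹ * ρ a = 1 := by rw [← map_mul, inv_mul_cancel, map_one]
    rw [hc, mul_smul_comm, mul_one] at h1
    rcases eq_or_ne c 0 with h | h
    · subst h
      simp only [zero_smul] at h1
      have : ∀ x : Module.End F V, x = 0 := fun x => by
        rw [← one_mul x, ← h1, zero_mul]
      rw [this (ρ a⁻¹), this ((0 : F)⁻¹ • 1)]
    · rw [← h1, smul_smul, inv_mul_cancel₀ h, one_smul]

theorem mem_scalars {ρ : G →* Module.End F V} {g : G} :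
    g ∈ scalars ρ ↔ ∃ c : F, ρ g = c • (1 : Module.End F V) := Iff.rfl

theorem scalars_commute (ρ : G →* Module.End F V) (hinj : Function.Injective ρ) {z : G}
    (hz : z ∈ scalars ρ) (g : G) : Commute z g := by
  obtain ⟨c, hc⟩ := hz
  refine hinj ?_
  rw [map_mul, map_mul, hc, smul_mul_assoc, mul_smul_comm, one_mul, mul_one]

/-- An element that is not scalar has centraliser leaving a proper nonzero subspace invariant. -/
theorem exists_invariant [IsAlgClosed F] [FiniteDimensional F V] [Nontrivial V]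
    (ρ : G →* Module.End F V) {x : G} (hx : x ∉ scalars ρ) :
    ∃ W : Submodule F V, W ≠ ⊥ ∧ W ≠ ⊤ ∧
      ∀ g ∈ Subgroup.centralizer ({x} : Set G), ∀ v ∈ W, ρ g v ∈ W := by
  obtain ⟨c, hc⟩ := Module.End.exists_eigenvalue (ρ x)
  refine ⟨(ρ x).eigenspace c, hc, fun h => hx ⟨c, ?_⟩, ?_⟩
  · ext v
    have : v ∈ (ρ x).eigenspace c := h ▸ Submodule.mem_top
    simpa using Module.End.mem_eigenspace_iff.1 this
  · intro g hg v hv
    rw [Module.End.mem_eigenspace_iff] at hv ⊢
    rw [← Module.End.mul_apply, ← map_mul,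
      ← Subgroup.mem_centralizer_singleton_iff.1 hg, map_mul, Module.End.mul_apply, hv, map_smul]

theorem card_pgroup_le [Finite G] {m : ℕ} (hm : (Nat.card G).factorization p ≤ m) (K : Subgroup G)
    (hK : IsPGroup p K) : Nat.card K ≤ p ^ m := by
  obtain ⟨k, hk⟩ := IsPGroup.iff_card.1 hK
  rw [hk]
  refine Nat.pow_le_pow_right (Nat.Prime.pos Fact.out) (le_trans ?_ hm)
  have hdvd : p ^ k ∣ Nat.card G := hk ▸ Subgroup.card_subgroup_dvd_card K
  exact (Nat.Prime.pow_dvd_iff_le_factorization Fact.out Nat.card_pos.ne').1 hdvd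

theorem factorization_le_of_dvd [Finite G] {m : ℕ} (hm : (Nat.card G).factorization p ≤ m)
    {k : ℕ} (hk : k ∣ Nat.card G) : k.factorization p ≤ m := by
  have hk0 : k ≠ 0 := ne_zero_of_dvd_ne_zero Nat.card_pos.ne' hk
  exact le_trans ((Nat.factorization_le_iff_dvd hk0 Nat.card_pos.ne').2 hk p) hm

/-- An abelian normal subgroup contains one without `p`-torsion whose index is at most `p ^ m`
times bigger. -/
theorem exists_coprime_part [Finite G] {m : ℕ} (hm : (Nat.card G).factorization p ≤ m)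
    (A : Subgroup G) [hAn : A.Normal] (hAc : IsMulCommutative A) :
    ∃ B : Subgroup G, B.Normal ∧ IsMulCommutative B ∧ (∀ b ∈ B, ¬ p ∣ orderOf b) ∧
      B.index ≤ A.index * p ^ m := by
  have hcomm : ∀ a ∈ A, ∀ b ∈ A, Commute a b := fun a ha b hb =>
    congrArg Subtype.val (mul_comm' (⟨a, ha⟩ : A) ⟨b, hb⟩)
  let φ : A →* A :=
    { toFun := fun a => a ^ p ^ m
      map_one' := one_pow _
      map_mul' := fun a b => Commute.mul_pow (mul_comm' a b) _ }
  let B : Subgroup G := φ.range.map A.subtype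
  have hBA : B ≤ A := Subgroup.map_subtype_le _
  refine ⟨B, ⟨?_⟩, ⟨⟨fun a b => Subtype.ext (hcomm a (hBA a.2) b (hBA b.2))⟩⟩, ?_, ?_⟩
  · rintro _ ⟨_, ⟨a, rfl⟩, rfl⟩ g
    refine ⟨φ ⟨g * a * g⁻¹, hAn.conj_mem a a.2 g⟩, ⟨_, rfl⟩, ?_⟩
    simp [φ, conj_pow]
  · rintro _ ⟨_, ⟨a, rfl⟩, rfl⟩ hdvd
    simp only [φ, MonoidHom.coe_mk, OneHom.coe_mk, map_pow, Subgroup.subtype_apply] at hdvd
    have hk : (orderOf (a : G)).factorization p ≤ m :=
      factorization_le_of_dvd hm (orderOf_dvd_natCard _)
    have hpp : p.Prime := Fact.out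
    have h1 := (Nat.Prime.pow_dvd_iff_le_factorization hpp (orderOf_pos (a : G)).ne').2 le_rfl
    rw [orderOf_pow] at hdvd
    obtain ⟨j, hj⟩ := hdvd
    have hgcd : p ^ (orderOf (a : G)).factorization p ∣ Nat.gcd (orderOf (a : G)) (p ^ m) :=
      Nat.dvd_gcd h1 (pow_dvd_pow _ hk)
    have h2 : p ^ ((orderOf (a : G)).factorization p + 1) ∣ orderOf (a : G) := by
      have hmul := Nat.div_mul_cancel (Nat.gcd_dvd_left (orderOf (a : G)) (p ^ m))
      rw [hj, mul_comm (p * j)] at hmul
      rw [pow_succ]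
      calc _ ∣ Nat.gcd (orderOf (a : G)) (p ^ m) * (p * j) :=
            mul_dvd_mul hgcd (dvd_mul_right _ _)
        _ = _ := hmul
    have := (Nat.Prime.pow_dvd_iff_le_factorization hpp (orderOf_pos (a : G)).ne').1 h2
    omega
  · have h1 : B.index = φ.range.index * A.index := Subgroup.index_map_subtype _ 
    have h2 : φ.range.index = Nat.card φ.ker := by
      have e1 := φ.range.card_mul_index
      have e2 := φ.ker.card_mul_index
      rw [Subgroup.index_ker] at e2
      have hpos : 0 < Nat.card φ.range := Nat.card_pos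
      exact Nat.eq_of_mul_eq_mul_left hpos (by rw [e1, mul_comm, e2])
    have h3 : Nat.card φ.ker ≤ p ^ m := by
      refine card_pgroup_le (G := A) (factorization_le_of_dvd hm (Subgroup.card_subgroup_dvd_card A))
        φ.ker fun a => ⟨m, ?_⟩
      exact Subtype.ext (MonoidHom.mem_ker.1 a.2 : φ (a : A) = 1)
    rw [h1, h2, mul_comm]
    exact Nat.mul_le_mul_left _ h3

end CfsgLib.ModularJordan
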