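import Cfsg.Agent.Lib.ModularJordan.Orbit

/-! # Classes of commuting stable elements, after Jordan.

An element is stable for the exponent `E` when it is not scalar and has the same centraliser as its
`E`-th power. Commutation is transitive on stable elements; the classes carry the counting. -/

set_option autoImplicit false

namespace CfsgLib.ModularJordan

variable {p : ℕ} [Fact p.Prime] {G : Type*} [Group G] [Finite G]
  {F V : Type*} [Field F] [AddCommGroup V] [Module F V]

/-- Centralisers of non-scalar elements have commutative normal subgroups without `p`-torsion. -/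
def Nice (p : ℕ) (ρ : G →* Module.End F V) (J : ℕ) : Prop :=
  ∀ x ∉ scalars ρ, ∃ A : Subgroup (Subgroup.centralizer ({x} : Set G)),
    A.Normal ∧ IsMulCommutative A ∧ (∀ a ∈ A, ¬ p ∣ orderOf a) ∧ A.index ≤ J

theorem mem_centralizer_single {x g : G} :
    g ∈ Subgroup.centralizer ({x} : Set G) ↔ Commute g x :=
  Subgroup.mem_centralizer_singleton_iff

theorem commute_pow_of_nice {ρ : G →* Module.End F V} {J : ℕ} (hN : Nice p ρ J) {s a b : G}
    (hs : s ∉ scalars ρ) (ha : Commute a s) (hb : Commute b s) {E : ℕ} (hE : J.factorial ∣ E) :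
    Commute (a ^ E) (b ^ E) := by
  obtain ⟨A, hAn, hAc, -, hA⟩ := hN s hs
  have key : ∀ g, (hg : Commute g s) →
      (⟨g, mem_centralizer_single.2 hg⟩ : Subgroup.centralizer ({s} : Set G)) ^ E ∈ A := by
    intro g hg
    have hd : A.index ∣ E :=
      dvd_trans (Nat.dvd_factorial (Nat.pos_of_ne_zero A.index_ne_zero_of_finite) hA) hE
    obtain ⟨q, rfl⟩ := hd
    rw [pow_mul]
    exact A.pow_mem (A.pow_index_mem _) q
  exact congrArg (fun t : A => ((t : Subgroup.centralizer ({s} : Set G)) : G))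
    (mul_comm' (⟨_, key a ha⟩ : A) ⟨_, key b hb⟩)

theorem not_dvd_orderOf_pow {m E : ℕ} (hm : (Nat.card G).factorization p ≤ m) (hE : p ^ m ∣ E)
    (g : G) : ¬ p ∣ orderOf (g ^ E) := by
  have hpp : p.Prime := Fact.out
  intro h
  have hd : orderOf (g ^ E) ∣ orderOf g / p ^ (orderOf g).factorization p := by
    rw [orderOf_dvd_iff_pow_eq_one, ← pow_mul, ← orderOf_dvd_iff_pow_eq_one]
    conv_lhs => rw [← Nat.ordProj_mul_ordCompl_eq_self (orderOf g) p]
    exact mul_dvd_mul (dvd_trans (pow_dvd_pow _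
      (factorization_le_of_dvd hm (orderOf_dvd_natCard g))) hE) dvd_rfl
  exact Nat.not_dvd_ordCompl hpp (orderOf_pos g).ne' (dvd_trans h hd)

variable (ρ : G →* Module.End F V) (E : ℕ)

/-- Stable elements. -/
def St (y : G) : Prop := y ∉ scalars ρ ∧ ∀ g, Commute g (y ^ E) → Commute g y

/-- The stable elements commuting with a given one. -/
def cls (y : G) : Set G := {w | St ρ E w ∧ Commute w y}

/-- The classes. -/
abbrev Cl : Type _ := {S : Set G // ∃ y, St ρ E y ∧ S = cls ρ E y}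

variable {ρ} {E}

omit [Finite G] in
theorem scalars_conj {z : G} (hz : z ∈ scalars ρ) (g : G) : g * z * g⁻¹ ∈ scalars ρ := by
  obtain ⟨c, hc⟩ := hz
  refine ⟨c, ?_⟩
  rw [map_mul, map_mul, hc, mul_smul_comm, mul_one, smul_mul_assoc, ← map_mul, mul_inv_cancel,
    map_one]

omit [Finite G] in
theorem commute_conj {a b : G} (h : Commute a b) (g : G) :
    Commute (g * a * g⁻¹) (g * b * g⁻¹) := h.map (MulAut.conj g).toMonoidHom

theorem st_conj {y : G} (hy : St ρ E y) (g : G) : St ρ E (g * y * g⁻¹) := by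
  refine ⟨fun h => hy.1 ?_, fun a ha => ?_⟩
  · simpa [mul_assoc] using scalars_conj h g⁻¹
  · rw [conj_pow] at ha
    have h1 := commute_conj ha g⁻¹
    simp only [inv_inv] at h1
    rw [show g⁻¹ * (g * y ^ E * g⁻¹) * g = y ^ E by group] at h1
    have h2 := commute_conj (hy.2 _ h1) g
    rwa [show g * (g⁻¹ * a * g) * g⁻¹ = a by group] at h2

theorem conj_cls (y g : G) :
    (fun w => g * w * g⁻¹) '' cls ρ E y = cls ρ E (g * y * g⁻¹) := by
  ext w
  constructor
  · rintro ⟨u, ⟨hu, huy⟩, rfl⟩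
    exact ⟨st_conj hu g, commute_conj huy g⟩
  · rintro ⟨hw, hwy⟩
    refine ⟨g⁻¹ * w * g, ⟨by simpa using st_conj hw g⁻¹, ?_⟩, by group⟩
    have := commute_conj hwy g⁻¹
    simp only [inv_inv] at this
    rwa [show g⁻¹ * (g * y * g⁻¹) * g = y by group] at this

instance clAction : MulAction G (Cl ρ E) where
  smul g S := ⟨(fun w => g * w * g⁻¹) '' S.1, by
    obtain ⟨y, hy, hS⟩ := S.2
    exact ⟨_, st_conj hy g, by rw [hS, conj_cls]⟩⟩
  one_smul S := Subtype.ext (show (fun w => (1 : G) * w * 1⁻¹) '' S.1 = S.1 by simp)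
  mul_smul g h S := Subtype.ext (by
    show (fun w => g * h * w * (g * h)⁻¹) '' S.1
      = (fun w => g * w * g⁻¹) '' ((fun w => h * w * h⁻¹) '' S.1)
    rw [Set.image_image]
    simp [mul_assoc])

theorem smul_val (g : G) (S : Cl ρ E) : (g • S).1 = (fun w => g * w * g⁻¹) '' S.1 := rfl

variable {J : ℕ}

theorem st_trans (hN : Nice p ρ J) (hE : J.factorial ∣ E) {y w z : G} (hy : St ρ E y)
    (hw : St ρ E w) (hz : z ∉ scalars ρ) (hyz : Commute y z) (hwz : Commute w z) : Commute y w :=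
  hw.2 y ((hy.2 _ (commute_pow_of_nice hN hz hyz hwz hE).symm).symm)

theorem cls_eq (hN : Nice p ρ J) (hE : J.factorial ∣ E) {y w : G} (hy : St ρ E y)
    (hw : St ρ E w) (h : Commute y w) : cls ρ E y = cls ρ E w := by
  ext u
  exact ⟨fun hu => ⟨hu.1, st_trans hN hE hu.1 hw hy.1 hu.2 h.symm⟩,
    fun hu => ⟨hu.1, st_trans hN hE hu.1 hy hw.1 hu.2 h⟩⟩

theorem mem_cls_self {y : G} (hy : St ρ E y) : y ∈ cls ρ E y := ⟨hy, Commute.refl y⟩

theorem cl_eq_of_mem (hN : Nice p ρ J) (hE : J.factorial ∣ E) (S : Cl ρ E) {w : G} (hw : w ∈ S.1) :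
    St ρ E w ∧ S.1 = cls ρ E w := by
  obtain ⟨y, hy, hS⟩ := S.2
  rw [hS] at hw ⊢
  exact ⟨hw.1, cls_eq hN hE hy hw.1 hw.2.symm⟩

/-- The elements assigned to a class. -/
def tset (S : Cl ρ E) : Set G := {x | ∃ w ∈ S.1, Commute x w}

theorem tset_smul (g : G) (S : Cl ρ E) :
    tset (g • S) = (fun w => g * w * g⁻¹) '' tset S := by
  ext x
  constructor
  · rintro ⟨_, ⟨u, hu, rfl⟩, hxu⟩
    refine ⟨g⁻¹ * x * g, ⟨u, hu, ?_⟩, by group⟩
    have := commute_conj hxu g⁻¹
    simp only [inv_inv] at this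
    rwa [show g⁻¹ * (g * u * g⁻¹) * g = u by group] at this
  · rintro ⟨a, ⟨u, hu, hau⟩, rfl⟩
    exact ⟨_, ⟨u, hu, rfl⟩, commute_conj hau g⟩

theorem ncard_tset_smul (g : G) (S : Cl ρ E) : (tset (g • S)).ncard = (tset S).ncard := by
  rw [tset_smul, Set.ncard_image_of_injective]
  intro a b h
  simpa using h

theorem card_stabilizer_smul (g : G) (S : Cl ρ E) :
    Nat.card (MulAction.stabilizer G (g • S)) = Nat.card (MulAction.stabilizer G S) := by
  rw [MulAction.stabilizer_smul_eq_stabilizer_map_conj]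
  exact Subgroup.card_map_of_injective (MulAut.conj g).injective

theorem commute_mem_stabilizer (hN : Nice p ρ J) (hE : J.factorial ∣ E) (S : Cl ρ E) {w g : G}
    (hw : w ∈ S.1) (hg : Commute g w) : g ∈ MulAction.stabilizer G S := by
  obtain ⟨hw1, hS⟩ := cl_eq_of_mem hN hE S hw
  rw [MulAction.mem_stabilizer_iff]
  apply Subtype.ext
  rw [smul_val, hS, conj_cls, hg.eq, mul_inv_cancel_right]

theorem scalars_le_stabilizer (hinj : Function.Injective ρ) (hN : Nice p ρ J)
    (hE : J.factorial ∣ E) (S : Cl ρ E) : scalars ρ ≤ MulAction.stabilizer G S := by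
  intro z hz
  obtain ⟨y, hy, hS⟩ := S.2
  exact commute_mem_stabilizer hN hE S (hS ▸ mem_cls_self hy) (scalars_commute ρ hinj hz y)

variable [IsAlgClosed F] [CharP F p] [FiniteDimensional F V]

/-- Each stabiliser has a commutative normal subgroup of bounded index that fixes the set of
assigned elements under right multiplication. -/
theorem exists_core (hinj : Function.Injective ρ) (hN : Nice p ρ J) {m : ℕ}
    (hm : (Nat.card G).factorization p ≤ m) (hEp : p ^ m ∣ E) (hEJ : J.factorial ∣ E)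
    (hEb : ((J * Module.finrank F V ^ Module.finrank F V).factorial).factorial ∣ E)
    (S : Cl ρ E) :
    ∃ B : Subgroup G, B ≤ MulAction.stabilizer G S ∧ scalars ρ ≤ B ∧
      (∀ a ∈ B, ∀ b ∈ B, Commute a b) ∧
      (∀ g ∈ MulAction.stabilizer G S, ∀ b ∈ B, g * b * g⁻¹ ∈ B) ∧
      B.relIndex (MulAction.stabilizer G S)
        ≤ (J * Module.finrank F V ^ Module.finrank F V).factorial ∧
      (∀ w ∈ S.1, w ^ E ∈ B) := by
  obtain ⟨y, hy, hS⟩ := S.2
  have hyS : y ∈ S.1 := hS ▸ mem_cls_self hy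
  let L := MulAction.stabilizer G S
  let C := Subgroup.centralizer ({y} : Set G)
  have hCL : C ≤ L := fun g hg =>
    commute_mem_stabilizer hN hEJ S hyS (mem_centralizer_single.1 hg)
  obtain ⟨A, hAn, hAc, -, hA⟩ := hN y hy.1
  let A0 : Subgroup G := A.map C.subtype
  have hA0C : A0 ≤ C := Subgroup.map_subtype_le A
  have h1 : A0.relIndex C ≤ J := by
    rw [Subgroup.relIndex, Subgroup.subgroupOf,
      Subgroup.comap_map_eq_self_of_injective C.subtype_injective]
    exact hA
  have hCy : C = Subgroup.centralizer ({y ^ E} : Set G) :=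
    le_antisymm (fun g hg => mem_centralizer_single.2 ((mem_centralizer_single.1 hg).pow_right E))
      (fun g hg => mem_centralizer_single.2 (hy.2 g (mem_centralizer_single.1 hg)))
  have hin : ∀ g ∈ L, g * y * g⁻¹ ∈ cls ρ E y := by
    intro g hg
    have h := congrArg Subtype.val (MulAction.mem_stabilizer_iff.1 hg)
    rw [smul_val] at h
    rw [← hS, ← h]
    exact ⟨y, hyS, rfl⟩
  have h2 : C.relIndex L ≤ Module.finrank F V ^ Module.finrank F V := by
    rw [hCy]
    refine relIndex_centralizer_le (p := p) ρ hinj L (y ^ E) (not_dvd_orderOf_pow hm hEp y) ?_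
    intro g hg h hh
    rw [← conj_pow, ← conj_pow]
    exact (st_trans hN hEJ (st_conj hy g) (st_conj hy h) hy.1 (hin g hg).2 (hin h hh).2).pow_pow _ _
  let A1 : Subgroup L := A0.subgroupOf L
  have h3 : A1.index ≤ J * Module.finrank F V ^ Module.finrank F V := by
    show A0.relIndex L ≤ _
    rw [← Subgroup.relIndex_mul_relIndex A0 C L hA0C hCL]
    exact Nat.mul_le_mul h1 h2
  let K : Subgroup L := A1.normalCore
  have hKi : K.index ≤ (J * Module.finrank F V ^ Module.finrank F V).factorial := by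
    show A1.normalCore.index ≤ _
    rw [Subgroup.normalCore_eq_ker, Subgroup.index_ker]
    refine le_trans (Subgroup.card_le_card_group _) ?_
    rw [Nat.card_perm]
    exact Nat.factorial_le h3
  let B : Subgroup G := scalars ρ ⊔ K.map L.subtype
  haveI hZn : (scalars ρ).Normal := ⟨fun z hz g => scalars_conj hz g⟩
  have hmem : ∀ b ∈ B, ∃ z ∈ scalars ρ, ∃ k : L, k ∈ K ∧ z * (k : G) = b := by
    intro b hb
    obtain ⟨z, hz, c, hc, rfl⟩ := Subgroup.mem_sup_of_normal_left.1 hb
    obtain ⟨k, hk, rfl⟩ := hc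
    exact ⟨z, hz, k, hk, rfl⟩
  have hKA : ∀ k : L, k ∈ K → (k : G) ∈ A0 := fun k hk =>
    Subgroup.mem_subgroupOf.1 (A1.normalCore_le hk)
  have hA0c : ∀ a ∈ A0, ∀ b ∈ A0, Commute a b := by
    rintro _ ⟨a, ha, rfl⟩ _ ⟨b, hb, rfl⟩
    exact congrArg (fun t : A => ((t : C) : G)) (mul_comm' (⟨a, ha⟩ : A) ⟨b, hb⟩)
  refine ⟨B, sup_le (scalars_le_stabilizer hinj hN hEJ S) (Subgroup.map_subtype_le K),
    le_sup_left, ?_, ?_, ?_, ?_⟩
  · intro a ha b hb
    obtain ⟨z, hz, k, hk, rfl⟩ := hmem a ha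
    obtain ⟨z', hz', k', hk', rfl⟩ := hmem b hb
    exact (((scalars_commute ρ hinj hz z').mul_right (scalars_commute ρ hinj hz _))).mul_left
      ((scalars_commute ρ hinj hz' _).symm.mul_right (hA0c _ (hKA k hk) _ (hKA k' hk')))
  · intro g hg b hb
    obtain ⟨z, hz, k, hk, rfl⟩ := hmem b hb
    rw [show g * (z * (k : G)) * g⁻¹ = (g * z * g⁻¹) * (g * k * g⁻¹) by group]
    refine B.mul_mem ((le_sup_left : scalars ρ ≤ B) (scalars_conj hz g))
      ((le_sup_right : K.map L.subtype ≤ B) ⟨⟨g, hg⟩ * k * ⟨g, hg⟩⁻¹, ?_, rfl⟩)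
    exact (A1.normalCore_normal).conj_mem k hk _
  · refine le_trans (Subgroup.relIndex_le_of_le_left (le_sup_right : K.map L.subtype ≤ B) ?_) ?_
    · exact Subgroup.index_ne_zero_of_finite
    · rw [Subgroup.relIndex, Subgroup.subgroupOf,
        Subgroup.comap_map_eq_self_of_injective L.subtype_injective]
      exact hKi
  · intro w hw
    have hwL : w ∈ L := commute_mem_stabilizer hN hEJ S hw (Commute.refl w)
    refine (le_sup_right : K.map L.subtype ≤ B) ⟨(⟨w, hwL⟩ : L) ^ E, ?_, rfl⟩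
    obtain ⟨q, hq⟩ := dvd_trans
      (Nat.dvd_factorial (Nat.pos_of_ne_zero K.index_ne_zero_of_finite) hKi) hEb
    haveI : K.Normal := A1.normalCore_normal
    rw [hq, pow_mul]
    exact K.pow_mem (K.pow_index_mem _) q

end CfsgLib.ModularJordan
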