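import Cfsg.Agent.Lib.ModularJordan.Cls

/-! # Jordan's counting argument. -/

set_option autoImplicit false

namespace CfsgLib.ModularJordan

variable {p : ℕ} [Fact p.Prime] {G : Type*} [Group G] [Finite G]
  {F V : Type*} [Field F] [IsAlgClosed F] [CharP F p] [AddCommGroup V] [Module F V]
  [FiniteDimensional F V] [Nontrivial V]
  {ρ : G →* Module.End F V} {E J m : ℕ}

/-- Non-scalar elements assigned to no class. -/
def Stray (ρ : G →* Module.End F V) (E : ℕ) : Set G :=
  {x | x ∉ scalars ρ ∧ ∀ w, St ρ E w → ¬ Commute x w}

theorem sum_tset (hinj : Function.Injective ρ) (hN : Nice p ρ J) (hE : J.factorial ∣ E)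
    [Fintype (Cl ρ E)] :
    (∑ S : Cl ρ E, (tset S).ncard) + (Stray ρ E).ncard + Nat.card (scalars ρ)
      = Nat.card G + Fintype.card (Cl ρ E) * Nat.card (scalars ρ) := by
  classical
  haveI := Fintype.ofFinite G
  have key : ∀ x : G, (∑ S : Cl ρ E, if x ∈ tset S then 1 else 0)
      + (if x ∈ Stray ρ E then 1 else 0) + (if x ∈ scalars ρ then 1 else 0)
      = 1 + Fintype.card (Cl ρ E) * (if x ∈ scalars ρ then 1 else 0) := by
    intro x
    by_cases hx : x ∈ scalars ρ
    · have h1 : ∀ S : Cl ρ E, x ∈ tset S := fun S => by
        obtain ⟨y, hy, hS⟩ := S.2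
        exact ⟨y, hS ▸ mem_cls_self hy, scalars_commute ρ hinj hx y⟩
      have h2 : x ∉ Stray ρ E := fun h => h.1 hx
      simp [hx, h1, h2, add_comm]
    · by_cases hR : x ∈ Stray ρ E
      · have h1 : ∀ S : Cl ρ E, x ∉ tset S := by
          rintro S ⟨w, hw, hxw⟩
          exact hR.2 w (cl_eq_of_mem hN hE S hw).1 hxw
        simp [hx, hR, h1]
      · obtain ⟨w, hw, hxw⟩ : ∃ w, St ρ E w ∧ Commute x w := by
          by_contra h
          exact hR ⟨hx, fun w hw hc => h ⟨w, hw, hc⟩⟩
        let S0 : Cl ρ E := ⟨cls ρ E w, w, hw, rfl⟩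
        have h1 : ∀ S : Cl ρ E, x ∈ tset S ↔ S = S0 := by
          intro S
          constructor
          · rintro ⟨u, hu, hxu⟩
            obtain ⟨hu1, hS⟩ := cl_eq_of_mem hN hE S hu
            apply Subtype.ext
            rw [hS]
            exact cls_eq hN hE hu1 hw (st_trans hN hE hu1 hw hx hxu.symm hxw.symm)
          · rintro rfl
            exact ⟨w, mem_cls_self hw, hxw⟩
        simp [hx, hR, h1]
  have h := Finset.sum_congr rfl (fun x (_ : x ∈ Finset.univ) => key x)
  rw [Finset.sum_add_distrib, Finset.sum_add_distrib, Finset.sum_add_distrib, Finset.sum_comm,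
    ← Finset.mul_sum] at h
  simp only [Finset.sum_boole, Nat.cast_id, Finset.sum_const, Finset.card_univ, smul_eq_mul,
    mul_one] at h
  simp only [← Nat.card_coe_set_eq, Nat.card_eq_fintype_card, Fintype.card_subtype] at h ⊢
  convert h using 3

theorem stable_power (hinj : Function.Injective ρ) (x : G) {g : G}
    (hg : g ∈ Subgroup.centralizer ({x} : Set G))
    (hno : ∀ w, St ρ E w → ¬ Commute x w) :
    g ^ E ^ (Module.finrank F V * Module.finrank F V + 1) ∈ scalars ρ := by
  by_contra hM
  let c : ℕ → G := fun i => g ^ E ^ i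
  have hsucc : ∀ i, c (i + 1) = c i ^ E := fun i => by simp [c, pow_succ, pow_mul]
  have hnot : ∀ i ≤ Module.finrank F V * Module.finrank F V + 1, c i ∉ scalars ρ := by
    intro i hi h
    apply hM
    obtain ⟨j, hj⟩ := pow_dvd_pow E hi
    rw [hj, pow_mul]
    exact (scalars ρ).pow_mem h j
  let D : ℕ → Submodule F (Module.End F V) := fun i =>
    Subalgebra.toSubmodule (Subalgebra.centralizer F ({ρ (c i)} : Set (Module.End F V)))
  have hgrow : ∀ i ≤ Module.finrank F V * Module.finrank F V + 1,
      i + 1 ≤ Module.finrank F (D i) := by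
    intro i
    induction i with
    | zero =>
        intro _
        rw [Nat.succ_le_iff, Module.finrank_pos_iff_exists_ne_zero]
        refine ⟨⟨1, (Subalgebra.mem_toSubmodule _).2 (one_mem _)⟩, ?_⟩
        intro h
        exact one_ne_zero (congrArg Subtype.val h)
    | succ i ih =>
        intro hi
        have hst : ¬ St ρ E (c i) := fun h => hno _ h
          ((mem_centralizer_single.1 hg).symm.pow_right (E ^ i))
        have hex : ∃ a, Commute a (c (i + 1)) ∧ ¬ Commute a (c i) := by
          by_contra h
          refine hst ⟨hnot i (by omega), fun a ha => ?_⟩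
          by_contra h'
          exact h ⟨a, (hsucc i).symm ▸ ha, h'⟩
        obtain ⟨a, ha1, ha2⟩ := hex
        have hlt : D i < D (i + 1) := by
          refine lt_of_le_of_ne ?_ ?_
          · intro T hT
            rw [Subalgebra.mem_toSubmodule, Subalgebra.mem_centralizer_iff] at hT ⊢
            intro u hu
            rw [Set.mem_singleton_iff] at hu
            subst hu
            have h1 : Commute (ρ (c i)) T := hT _ rfl
            rw [hsucc, map_pow]
            exact (h1.pow_left E).eq
          · intro e
            have h1 : ρ a ∈ D (i + 1) := by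
              rw [Subalgebra.mem_toSubmodule, Subalgebra.mem_centralizer_iff]
              intro u hu
              rw [Set.mem_singleton_iff] at hu
              subst hu
              exact (ha1.symm.map ρ).eq
            rw [← e, Subalgebra.mem_toSubmodule, Subalgebra.mem_centralizer_iff] at h1
            have h2 := h1 _ rfl
            rw [← map_mul, ← map_mul] at h2
            exact ha2 (hinj h2).symm
        have := Submodule.finrank_lt_finrank_of_lt hlt
        have := ih (by omega)
        omega
  have h1 := hgrow _ le_rfl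
  have h2 := Submodule.finrank_le (D (Module.finrank F V * Module.finrank F V + 1))
  rw [Module.finrank_linearMap] at h2
  omega

end CfsgLib.ModularJordan
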