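import Cfsg.Agent.Lib.ModularJordan.Basic

/-! # Jordan's bound in characteristic `p`: the reducible case. -/

set_option autoImplicit false

universe u v

namespace CfsgLib.ModularJordan

/-- `J` bounds the index of an abelian normal subgroup in degree `k`, Sylow exponent `m`. -/
def Bounded (p m k J : ℕ) : Prop :=
  ∀ (G : Type u) [Group G] [Finite G] (F : Type v) [Field F] [IsAlgClosed F] [CharP F p]
    (V : Type v) [AddCommGroup V] [Module F V] [FiniteDimensional F V]
    (ρ : G →* Module.End F V), Function.Injective ρ → Module.finrank F V = k →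
    (Nat.card G).factorization p ≤ m →
    ∃ A : Subgroup G, A.Normal ∧ IsMulCommutative A ∧ A.index ≤ J

variable {p : ℕ} [Fact p.Prime] {m : ℕ}

theorem exists_of_hom {J k : ℕ} (hJ : Bounded.{u, v} p m k J) {G : Type u} [Group G] [Finite G]
    {F : Type v} [Field F] [IsAlgClosed F] [CharP F p]
    {V : Type v} [AddCommGroup V] [Module F V] [FiniteDimensional F V]
    (ρ : G →* Module.End F V) (hk : Module.finrank F V = k)
    (hm : (Nat.card G).factorization p ≤ m) :
    ∃ A : Subgroup G, A.Normal ∧ A.index ≤ J ∧ ∀ a ∈ A, ∀ b ∈ A, ρ (a * b) = ρ (b * a) := by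
  let σ := ρ.toHomUnits
  let π : (G ⧸ σ.ker) →* Module.End F V :=
    (Units.coeHom _).comp (QuotientGroup.kerLift σ)
  have hπ : Function.Injective π :=
    Units.val_injective.comp (QuotientGroup.kerLift_injective σ)
  have hcard : Nat.card (G ⧸ σ.ker) ∣ Nat.card G := Subgroup.card_quotient_dvd_card _
  obtain ⟨A, hAn, hAc, hA⟩ := hJ (G ⧸ σ.ker) F V π hπ hk (factorization_le_of_dvd hm hcard)
  refine ⟨A.comap (QuotientGroup.mk' σ.ker), hAn.comap _, ?_, fun a ha b hb => ?_⟩
  · rwa [Subgroup.index_comap_of_surjective _ (QuotientGroup.mk'_surjective _)]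
  · have h : (QuotientGroup.mk' σ.ker a) * QuotientGroup.mk' σ.ker b
        = QuotientGroup.mk' σ.ker b * QuotientGroup.mk' σ.ker a :=
      congrArg Subtype.val (mul_comm' (⟨_, ha⟩ : A) ⟨_, hb⟩)
    have := congrArg π h
    rw [← map_mul (QuotientGroup.mk' σ.ker), ← map_mul (QuotientGroup.mk' σ.ker)] at this
    exact this

theorem card_mulAut_le {K : Type*} [Group K] [Finite K] :
    Nat.card (MulAut K) ≤ (Nat.card K).factorial := by
  rw [← Nat.card_perm]
  exact Nat.card_le_card_of_injective MulEquiv.toEquiv MulEquiv.toEquiv_injective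

theorem reducible {n J : ℕ} (hJ : ∀ k ≤ n, Bounded.{u, v} p m k J)
    {G : Type u} [Group G] [Finite G] {F : Type v} [Field F] [IsAlgClosed F] [CharP F p]
    {V : Type v} [AddCommGroup V] [Module F V] [FiniteDimensional F V]
    (ρ : G →* Module.End F V) (hinj : Function.Injective ρ)
    (hn : Module.finrank F V ≤ n + 1) (hm : (Nat.card G).factorization p ≤ m)
    (W : Submodule F V) (hW0 : W ≠ ⊥) (hW1 : W ≠ ⊤) (hinv : ∀ g, ∀ v ∈ W, ρ g v ∈ W) :
    ∃ A : Subgroup G, A.Normal ∧ IsMulCommutative A ∧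
      A.index ≤ p ^ m * ((J * J) * (p ^ m).factorial) := by
  let ρ1 : G →* Module.End F W :=
    { toFun := fun g => (ρ g).restrict (hinv g)
      map_one' := by ext v; simp
      map_mul' := fun a b => by ext v; simp }
  let ρ2 : G →* Module.End F (V ⧸ W) :=
    { toFun := fun g => W.mapQ W (ρ g) (hinv g)
      map_one' := by ext v; simp
      map_mul' := fun a b => by ext v; simp }
  have hd1 : Module.finrank F W ≤ n := by
    have := Submodule.finrank_lt hW1
    omega
  have hd2 : Module.finrank F (V ⧸ W) ≤ n := by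
    have h1 := W.finrank_quotient_add_finrank
    have h2 : 0 < Module.finrank F W := by
      rw [Nat.pos_iff_ne_zero, Ne, Submodule.finrank_eq_zero]
      exact hW0
    omega
  obtain ⟨A1, hA1n, hA1, hA1c⟩ := exists_of_hom (hJ _ hd1) ρ1 rfl hm
  obtain ⟨A2, hA2n, hA2, hA2c⟩ := exists_of_hom (hJ _ hd2) ρ2 rfl hm
  let K : Subgroup G := ρ1.ker ⊓ ρ2.ker
  have hKp : ∀ k ∈ K, k ^ p = 1 := by
    intro k hk
    obtain ⟨h1, h2⟩ := Subgroup.mem_inf.1 hk
    rw [MonoidHom.mem_ker] at h1 h2
    refine hinj ?_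
    let D : Module.End F V := ρ k - 1
    have hDW : ∀ v ∈ W, D v = 0 := fun v hv => by
      have := congrArg (fun f : Module.End F W => ((f ⟨v, hv⟩ : W) : V)) h1
      simpa [D, ρ1, sub_eq_zero] using this
    have hDV : ∀ v, D v ∈ W := fun v => by
      have := congrArg (fun f : Module.End F (V ⧸ W) => f (Submodule.Quotient.mk v)) h2
      simpa [D, ρ2, ← Submodule.Quotient.eq] using this
    have hDD : D * D = 0 := by ext v; simp [hDW _ (hDV v)]
    have hpow : ∀ j : ℕ, (1 + D) ^ j = 1 + (j : F) • D := by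
      intro j
      induction j with
      | zero => simp
      | succ j ih =>
          simp only [pow_succ, ih, add_mul, mul_add, mul_one, one_mul, smul_mul_assoc, hDD,
            smul_zero, add_zero, Nat.cast_succ, add_smul, one_smul]
          abel
    rw [map_pow, map_one, show ρ k = 1 + D by simp [D], hpow, CharP.cast_eq_zero, zero_smul,
      add_zero]
  have hKpg : IsPGroup p K := fun k => ⟨1, Subtype.ext (by simpa using hKp k k.2)⟩
  have hKcard : Nat.card K ≤ p ^ m := card_pgroup_le hm K hKpg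
  haveI hKn : K.Normal := inferInstanceAs (ρ1.ker ⊓ ρ2.ker).Normal
  let κ : G →* MulAut K := MulAut.conjNormal
  let C : Subgroup G := A1 ⊓ A2 ⊓ κ.ker
  haveI hCn : C.Normal := inferInstanceAs (A1 ⊓ A2 ⊓ κ.ker).Normal
  have hCi : C.index ≤ (J * J) * (p ^ m).factorial := by
    refine le_trans (Subgroup.index_inf_le) (Nat.mul_le_mul
      (le_trans (Subgroup.index_inf_le) (Nat.mul_le_mul hA1 hA2)) ?_)
    rw [Subgroup.index_ker]
    exact le_trans (le_trans (Subgroup.card_le_card_group _) card_mulAut_le)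
      (Nat.factorial_le hKcard)
  have hcK : ∀ x ∈ C, ∀ k ∈ K, Commute x k := by
    intro x hx k hk
    have h := congrArg (fun e : MulAut K => ((e ⟨k, hk⟩ : K) : G))
      (MonoidHom.mem_ker.1 (Subgroup.mem_inf.1 hx).2)
    simp only [κ, MulAut.conjNormal_apply, MulAut.one_apply] at h
    exact mul_inv_eq_iff_eq_mul.1 h
  let Zc : Subgroup G := C ⊓ Subgroup.centralizer (C : Set G)
  have hZn : Zc.Normal := inferInstanceAs (C ⊓ Subgroup.centralizer (C : Set G)).Normal
  have hpow : ∀ x ∈ C, x ^ p ∈ Zc := by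
    intro x hx
    refine Subgroup.mem_inf.2 ⟨pow_mem hx p, Subgroup.mem_centralizer_iff.2 fun y hy => ?_⟩
    have hy' : y ∈ C := hy
    obtain ⟨hx1, hx2⟩ := Subgroup.mem_inf.1 (Subgroup.mem_inf.1 hx).1
    obtain ⟨hy1, hy2⟩ := Subgroup.mem_inf.1 (Subgroup.mem_inf.1 hy').1
    let c := x * y * x⁻¹ * y⁻¹
    have hcmem : c ∈ K := by
      refine Subgroup.mem_inf.2 ⟨?_, ?_⟩
      · rw [MonoidHom.mem_ker, show c = (x * y) * (y * x)⁻¹ by simp [c, mul_assoc], map_mul,
          hA1c x hx1 y hy1, ← map_mul, mul_inv_cancel, map_one]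
      · rw [MonoidHom.mem_ker, show c = (x * y) * (y * x)⁻¹ by simp [c, mul_assoc], map_mul,
          hA2c x hx2 y hy2, ← map_mul, mul_inv_cancel, map_one]
    have hxc : Commute x c := hcK x hx c hcmem
    have hconj : ∀ j : ℕ, x ^ j * y = c ^ j * y * x ^ j := by
      intro j
      induction j with
      | zero => simp
      | succ j ih =>
          calc x ^ (j + 1) * y = x * (x ^ j * y) := by rw [pow_succ', mul_assoc]
            _ = x * c ^ j * y * x ^ j := by rw [ih]; simp only [mul_assoc]
            _ = c ^ j * (x * y) * x ^ j := by rw [(hxc.pow_right j).eq]; simp only [mul_assoc]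
            _ = c ^ j * (c * y * x) * x ^ j := by
                  rw [show x * y = c * y * x by simp [c, mul_assoc]]
            _ = c ^ (j + 1) * y * x ^ (j + 1) := by
                  rw [pow_succ, pow_succ']; simp only [mul_assoc]
    have := hconj p
    rw [hKp c hcmem, one_mul] at this
    exact this.symm
  have hZi : Zc.relIndex C ≤ p ^ m := by
    haveI : (Zc.subgroupOf C).Normal := hZn.subgroupOf C
    have hQ : IsPGroup p (C ⧸ Zc.subgroupOf C) := fun q => by
      obtain ⟨x, rfl⟩ := QuotientGroup.mk_surjective q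
      refine ⟨1, ?_⟩
      rw [pow_one, ← QuotientGroup.mk_pow, QuotientGroup.eq_one_iff, Subgroup.mem_subgroupOf]
      exact hpow x x.2
    obtain ⟨k, hk⟩ := IsPGroup.iff_card.1 hQ
    rw [Subgroup.relIndex, Subgroup.index, hk]
    refine Nat.pow_le_pow_right (Nat.Prime.pos Fact.out) (le_trans ?_ hm)
    refine (Nat.Prime.pow_dvd_iff_le_factorization Fact.out Nat.card_pos.ne').1 ?_
    exact dvd_trans (hk ▸ Subgroup.card_quotient_dvd_card _) (Subgroup.card_subgroup_dvd_card C)
  refine ⟨Zc, hZn, ⟨⟨fun a b => Subtype.ext ?_⟩⟩, ?_⟩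
  · exact (Subgroup.mem_centralizer_iff.1 (Subgroup.mem_inf.1 b.2).2 a (Subgroup.mem_inf.1 a.2).1)
  · rw [← Subgroup.relIndex_mul_index (inf_le_left : Zc ≤ C)]
    exact Nat.mul_le_mul hZi hCi

end CfsgLib.ModularJordan
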