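import Cfsg.Agent.Lib.ModularJordan.Count
import Cfsg.Agent.Lib.ModularJordan.Reducible

/-! # Jordan's theorem in characteristic `p` with bounded Sylow `p`-subgroups. -/

set_option autoImplicit false

universe u v

namespace CfsgLib.ModularJordan

section
variable {p : ℕ} [Fact p.Prime] {G : Type*} [Group G] [Finite G]
  {F V : Type*} [Field F] [IsAlgClosed F] [CharP F p] [AddCommGroup V] [Module F V]
  [FiniteDimensional F V] [Nontrivial V]
  {ρ : G →* Module.End F V} {E J m : ℕ}

/-- The bound on centralisers of stray elements. -/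
def strayBound (n J E : ℕ) : ℕ := n * (J * (E ^ (n * n + 1)) ^ n)

theorem card_centralizer_stray (hinj : Function.Injective ρ) (hN : Nice p ρ J) (hE0 : 0 < E)
    {x : G} (hx : x ∈ Stray ρ E) :
    Nat.card (Subgroup.centralizer ({x} : Set G))
      ≤ J * ((E ^ (Module.finrank F V * Module.finrank F V + 1)) ^ Module.finrank F V)
        * Nat.card (scalars ρ) := by
  obtain ⟨A, hAn, hAc, hAp, hA⟩ := hN x hx.1
  let C := Subgroup.centralizer ({x} : Set G)
  have hcard : Nat.card (A.map C.subtype) = Nat.card A :=
    Subgroup.card_map_of_injective C.subtype_injective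
  have h := card_le_of_pow_mem_scalars (p := p) ρ hinj (A.map C.subtype) (by
      rintro _ ⟨a, ha, rfl⟩ _ ⟨b, hb, rfl⟩
      exact congrArg (fun t : A => ((t : C) : G)) (mul_comm' (⟨a, ha⟩ : A) ⟨b, hb⟩))
    (by
      rintro _ ⟨a, ha, rfl⟩
      rw [Subgroup.subtype_apply, Subgroup.orderOf_coe]
      exact hAp a ha)
    (E ^ (Module.finrank F V * Module.finrank F V + 1)) (pow_pos hE0 _) (by
      rintro _ ⟨a, -, rfl⟩
      exact stable_power hinj x a.2 hx.2)
  rw [hcard] at h
  calc Nat.card C = A.index * Nat.card A := (A.index_mul_card).symm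
    _ ≤ J * (Nat.card (scalars ρ)
        * (E ^ (Module.finrank F V * Module.finrank F V + 1)) ^ Module.finrank F V) :=
          Nat.mul_le_mul hA h
    _ = _ := by ring

theorem stray_dvd (hinj : Function.Injective ρ) (hN : Nice p ρ J) (hE0 : 0 < E) (D : ℕ)
    (hD : (strayBound (Module.finrank F V) J E).factorial ∣ D) :
    Nat.card G ∣ D * (Stray ρ E).ncard := by
  classical
  haveI hZn : (scalars ρ).Normal := ⟨fun z hz g => scalars_conj hz g⟩
  letI act : MulAction G (G ⧸ scalars ρ) :=
    MulAction.compHom _ ((MulAut.conj).comp (QuotientGroup.mk' (scalars ρ)))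
  haveI := Fintype.ofFinite (G ⧸ scalars ρ)
  have hsmul : ∀ g x : G, g • (x : G ⧸ scalars ρ) = ((g * x * g⁻¹ : G) : G ⧸ scalars ρ) :=
    fun g x => rfl
  have hmul : ∀ x ∈ Stray ρ E, ∀ z ∈ scalars ρ, x * z ∈ Stray ρ E := by
    intro x hx z hz
    refine ⟨fun h => hx.1 ((Subgroup.mul_mem_cancel_right _ hz).1 h), fun w hw hc => hx.2 w hw ?_⟩
    have := hc.mul_left (scalars_commute ρ hinj ((scalars ρ).inv_mem hz) w)
    rwa [mul_assoc, mul_inv_cancel, mul_one] at this
  have hconj : ∀ g : G, ∀ x ∈ Stray ρ E, g * x * g⁻¹ ∈ Stray ρ E := by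
    intro g x hx
    refine ⟨fun h => hx.1 ?_, fun w hw hc => hx.2 _ (st_conj hw g⁻¹) ?_⟩
    · simpa [mul_assoc] using scalars_conj h g⁻¹
    · have := commute_conj hc g⁻¹
      simpa [mul_assoc] using this
  let T : Set (G ⧸ scalars ρ) := QuotientGroup.mk '' Stray ρ E
  have hpre : QuotientGroup.mk ⁻¹' T = Stray ρ E := by
    ext x
    refine ⟨?_, fun h => ⟨x, h, rfl⟩⟩
    rintro ⟨y, hy, hxy⟩
    have := hmul y hy _ (QuotientGroup.eq.1 hxy)
    rwa [mul_inv_cancel_left] at this
  have hT : ∀ (g : G) q, g • q ∈ T ↔ q ∈ T := by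
    intro g q
    obtain ⟨x, rfl⟩ := QuotientGroup.mk_surjective q
    have hmemT : ∀ y : G, (y : G ⧸ scalars ρ) ∈ T ↔ y ∈ Stray ρ E := fun y => by rw [← hpre]; rfl
    rw [hsmul, hmemT, hmemT]
    refine ⟨fun h => ?_, hconj g x⟩
    have := hconj g⁻¹ _ h
    simpa [mul_assoc] using this
  have hcard : (Stray ρ E).ncard = Nat.card (scalars ρ) * T.ncard := by
    rw [← Nat.card_coe_set_eq, ← Nat.card_coe_set_eq]
    conv_lhs => rw [← hpre]
    rw [Nat.card_congr (QuotientGroup.preimageMkEquivSubgroupProdSet _ _), Nat.card_prod]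
  have hmain := card_dvd_mul_sum (G := G) (α := G ⧸ scalars ρ)
    (fun q => if q ∈ T then Nat.card (scalars ρ) else 0) (fun g q => by simp [hT]) D ?_
  · rw [hcard]
    rw [← Finset.sum_filter, Finset.sum_const, smul_eq_mul] at hmain
    have hTc : T.ncard = (Finset.univ.filter (fun q => q ∈ T)).card := by
      rw [← Set.ncard_coe_finset]
      congr 1
      ext
      simp
    rwa [mul_comm (Nat.card (scalars ρ)), hTc]
  intro q
  by_cases hq : q ∈ T
  · simp only [hq, if_true]
    obtain ⟨x, hx, rfl⟩ := hq
    let K := MulAction.stabilizer G (x : G ⧸ scalars ρ)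
    have hZK : scalars ρ ≤ K := fun z hz => by
      rw [MulAction.mem_stabilizer_iff, hsmul, (scalars_commute ρ hinj hz x).eq,
        mul_inv_cancel_right]
    obtain ⟨l, hl⟩ := Subgroup.card_dvd_of_le hZK
    have hc : ∀ g : K, ∃ c : F, c ^ Module.finrank F V = 1 ∧
        ρ ((g : G) * x * (g : G)⁻¹) = c • ρ x := by
      intro g
      have h := MulAction.mem_stabilizer_iff.1 g.2
      rw [hsmul, eq_comm, QuotientGroup.eq] at h
      obtain ⟨c, hc⟩ := h
      have he : ρ ((g : G) * x * (g : G)⁻¹) = c • ρ x := by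
        rw [show (g : G) * x * (g : G)⁻¹ = x * (x⁻¹ * ((g : G) * x * (g : G)⁻¹)) by group,
          map_mul, hc, mul_smul_comm, mul_one]
      refine ⟨c, ?_, he⟩
      have hdet := congrArg LinearMap.det he
      have hg1 : LinearMap.det (ρ (g : G)) * LinearMap.det (ρ (g : G)⁻¹) = 1 := by
        rw [← map_mul, ← map_mul, mul_inv_cancel, map_one, map_one]
      rw [LinearMap.det_smul, map_mul, map_mul, map_mul, map_mul, mul_right_comm, hg1,
        one_mul] at hdet
      have hne : LinearMap.det (ρ x) ≠ 0 := by
        have h1 : LinearMap.det (ρ x) * LinearMap.det (ρ x⁻¹) = 1 := by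
          rw [← map_mul, ← map_mul, mul_inv_cancel, map_one, map_one]
        exact left_ne_zero_of_mul (h1.symm ▸ one_ne_zero)
      exact (mul_eq_right₀ hne).1 hdet.symm
    choose c hc1 hc2 using hc
    have hfib : ∀ g h : K, c g = c h → (g : G)⁻¹ * (h : G) ∈ Subgroup.centralizer ({x} : Set G) := by
      intro g h e
      have he := hinj ((hc2 g).trans (e ▸ (hc2 h).symm))
      rw [mem_centralizer_single]
      show (g : G)⁻¹ * (h : G) * x = x * ((g : G)⁻¹ * (h : G))
      calc (g : G)⁻¹ * (h : G) * x = (g : G)⁻¹ * ((h : G) * x * (h : G)⁻¹) * h := by group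
        _ = x * ((g : G)⁻¹ * (h : G)) := by rw [← he]; group
    haveI := Fintype.ofFinite G
    have hK : Nat.card K ≤ Nat.card (Subgroup.centralizer ({x} : Set G)) * Module.finrank F V := by
      rw [Nat.card_eq_fintype_card, Nat.card_eq_fintype_card, ← Finset.card_univ]
      refine le_trans (Finset.card_le_mul_card_image (f := c) Finset.univ _ ?_)
        (Nat.mul_le_mul_left _ (le_trans (Finset.card_le_card (t :=
          (Polynomial.nthRoots (Module.finrank F V) (1 : F)).toFinset) ?_)
          (le_trans (Multiset.toFinset_card_le _) (Polynomial.card_nthRoots _ _))))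
      · intro b hb
        obtain ⟨g0, -, rfl⟩ := Finset.mem_image.1 hb
        rw [← Finset.card_univ]
        refine Finset.card_le_card_of_injOn
          (fun g => if e : c g0 = c g then ⟨_, hfib g0 g e⟩ else 1) (fun _ _ => by simp) ?_
        intro a ha b hb e
        simp only [Finset.coe_filter, Finset.mem_univ, true_and, Set.mem_setOf_eq] at ha hb
        simp only [ha, hb, dite_true, Subtype.mk.injEq, mul_right_inj] at e
        exact Subtype.ext e
      · intro b hb
        obtain ⟨g, -, rfl⟩ := Finset.mem_image.1 hb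
        rw [Multiset.mem_toFinset, Polynomial.mem_nthRoots Module.finrank_pos]
        exact hc1 g
    have hlb : l ≤ strayBound (Module.finrank F V) J E := by
      have h1 := le_trans hK (Nat.mul_le_mul_right _ (card_centralizer_stray hinj hN hE0 hx))
      rw [hl] at h1
      refine Nat.le_of_mul_le_mul_left (?_ : Nat.card (scalars ρ) * l ≤ Nat.card (scalars ρ) * _)
        Nat.card_pos
      refine le_trans h1 (le_of_eq ?_)
      rw [strayBound]
      ring
    have hl0 : 0 < l := by
      rcases Nat.eq_zero_or_pos l with h | h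
      · rw [h, mul_zero] at hl
        exact absurd hl Nat.card_pos.ne'
      · exact h
    rw [hl, mul_comm D]
    exact mul_dvd_mul_left _ (dvd_trans (Nat.dvd_factorial hl0 hlb) hD)
  · simp [hq]

theorem of_dvd_scalars (hinj : Function.Injective ρ) (D : ℕ) (hD0 : 0 < D)
    (h : Nat.card G ∣ D * Nat.card (scalars ρ)) :
    ∃ A : Subgroup G, A.Normal ∧ IsMulCommutative A ∧ A.index ≤ D := by
  refine ⟨scalars ρ, ⟨fun z hz g => scalars_conj hz g⟩,
    ⟨⟨fun a b => Subtype.ext (scalars_commute ρ hinj a.2 b)⟩⟩, ?_⟩
  rw [← Subgroup.index_mul_card (scalars ρ)] at h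
  exact Nat.le_of_dvd hD0 (Nat.dvd_of_mul_dvd_mul_right Nat.card_pos h)

/-- The facts behind one step of the descent. -/
theorem step_facts (n J E : ℕ) (hEb : ((J * n ^ n).factorial).factorial ∣ E)
    (hEJ : J.factorial ∣ E) (hEp : p ^ m ∣ E) (hE0 : 0 < E)
    (hinj : Function.Injective ρ) (hn : Module.finrank F V = n)
    (hm : (Nat.card G).factorization p ≤ m) (hN : Nice p ρ J)
    (hcen : ∀ x : G, x ∉ scalars ρ → ∃ g, ¬ Commute g x) [Fintype (Cl ρ E)] (N D : ℕ)
    (hD : (J * n ^ n).factorial.factorial * (strayBound n J E).factorial * N.factorial = D) :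
    ((Nat.card G : ℤ) ∣ ((D : ℤ) * Nat.card (scalars ρ)) *
      (((Finset.univ.filter (fun S : Cl ρ E => N * Nat.card (scalars ρ) <
        Nat.card (MulAction.stabilizer G S))).card : ℤ) - 1)) ∧
    (∑ S : Cl ρ E, Nat.card (MulAction.stabilizer G S))
      ≤ 2 * (J * n ^ n).factorial * Nat.card G ∧
    (∀ S : Cl ρ E, MulAction.stabilizer G S = ⊤ →
      ∃ A : Subgroup G, A.Normal ∧ IsMulCommutative A ∧ A.index ≤ (J * n ^ n).factorial) := by
  classical
  subst hn
  set β := (J * Module.finrank F V ^ Module.finrank F V).factorial with hβ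
  choose B hBL hZB hBc hBn hBi hBw using fun S : Cl ρ E =>
    exists_core hinj hN hm hEp hEJ hEb S
  have hBT : ∀ S, (B S : Set G) ⊆ tset S := by
    intro S b hb
    obtain ⟨y, hy, hS⟩ := S.2
    have hyS : y ∈ S.1 := hS ▸ mem_cls_self hy
    exact ⟨y, hyS, hy.2 b (hBc S b hb _ (hBw S y hyS))⟩
  have hright : ∀ S, ∀ x ∈ tset S, ∀ b ∈ B S, x * b ∈ tset S := by
    intro S x hx b hb
    obtain ⟨w, hw, hxw⟩ := hx
    exact ⟨w, hw, hxw.mul_left ((cl_eq_of_mem hN hEJ S hw).1.2 b (hBc S b hb _ (hBw S w hw)))⟩
  have hdivT : ∀ S, Nat.card (B S) ∣ (tset S).ncard := by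
    intro S
    have hpre : QuotientGroup.mk ⁻¹' ((QuotientGroup.mk : G → G ⧸ B S) '' tset S) = tset S := by
      ext x
      refine ⟨?_, fun h => ⟨x, h, rfl⟩⟩
      rintro ⟨y, hy, hxy⟩
      have := hright S y hy _ (QuotientGroup.eq.1 hxy)
      rwa [mul_inv_cancel_left] at this
    rw [← Nat.card_coe_set_eq]
    conv_rhs => rw [← hpre]
    rw [Nat.card_congr (QuotientGroup.preimageMkEquivSubgroupProdSet _ _), Nat.card_prod]
    exact dvd_mul_right _ _
  have h2z : ∀ S, 2 * Nat.card (scalars ρ) ≤ Nat.card (B S) := by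
    intro S
    obtain ⟨l, hl⟩ := Subgroup.card_dvd_of_le (hZB S)
    obtain ⟨y, hy, hS⟩ := S.2
    have hyS : y ∈ S.1 := hS ▸ mem_cls_self hy
    rw [hl, mul_comm 2]
    refine Nat.mul_le_mul_left _ ?_
    by_contra hlt
    have hl1 : l = 1 := by
      rcases Nat.eq_zero_or_pos l with h | h
      · rw [h, mul_zero] at hl
        exact absurd hl Nat.card_pos.ne'
      · omega
    rw [hl1, mul_one] at hl
    have heq := Subgroup.eq_of_le_of_card_ge (hZB S) hl.le
    obtain ⟨g, hg⟩ := hcen y hy.1
    exact hg (hy.2 g (scalars_commute ρ hinj (heq ▸ hBw S y hyS) g).symm)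
  have hTB : ∀ S, Nat.card (B S) ≤ (tset S).ncard := fun S => by
    rw [← SetLike.coe_sort_coe, Nat.card_coe_set_eq]
    exact Set.ncard_le_ncard (hBT S)
  have hLB : ∀ S : Cl ρ E, Nat.card (MulAction.stabilizer G S)
      = (B S).relIndex (MulAction.stabilizer G S) * Nat.card (B S) := fun S => by
    rw [← Nat.card_congr (Subgroup.subgroupOfEquivOfLe (hBL S)).toEquiv]
    exact (Subgroup.index_mul_card _).symm
  have hid := sum_tset hinj hN hEJ (E := E)
  have hST : ∑ S : Cl ρ E, (tset S).ncard ≤ 2 * Nat.card G := by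
    have h1 : Fintype.card (Cl ρ E) * (2 * Nat.card (scalars ρ))
        ≤ ∑ S : Cl ρ E, (tset S).ncard := by
      rw [← Finset.card_univ, ← smul_eq_mul, ← Finset.sum_const]
      exact Finset.sum_le_sum fun S _ => le_trans (h2z S) (hTB S)
    rw [mul_left_comm] at h1
    omega
  refine ⟨?_, ?_, ?_⟩
  · have hd1 : Nat.card G ∣ D * ∑ S : Cl ρ E, (tset S).ncard := by
      refine card_dvd_mul_sum _ (fun g S => ncard_tset_smul g S) D fun S => ?_
      rw [hLB]
      refine mul_dvd_mul (dvd_trans ?_ (Dvd.intro _ ((mul_assoc _ _ _).symm.trans hD))) (hdivT S)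
      exact Nat.dvd_factorial (Nat.pos_of_ne_zero Subgroup.index_ne_zero_of_finite) (hBi S)
    have hd2 : Nat.card G ∣ D * (Stray ρ E).ncard :=
      stray_dvd hinj hN hE0 D ⟨β.factorial * N.factorial, by rw [← hD]; ring⟩
    have hd3 : Nat.card G ∣ D * (Nat.card (scalars ρ) * (Finset.univ.filter (fun S : Cl ρ E =>
        ¬ N * Nat.card (scalars ρ) < Nat.card (MulAction.stabilizer G S))).card) := by
      have h := card_dvd_mul_sum (G := G) (fun S : Cl ρ E =>
        if ¬ N * Nat.card (scalars ρ) < Nat.card (MulAction.stabilizer G S)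
          then Nat.card (scalars ρ) else 0)
        (fun g S => by simp only [card_stabilizer_smul]) D (fun S => by
          by_cases hS : N * Nat.card (scalars ρ) < Nat.card (MulAction.stabilizer G S)
          · rw [if_neg (not_not_intro hS), mul_zero]
            exact dvd_zero _
          rw [if_pos hS]
          obtain ⟨l, hl⟩ := Subgroup.card_dvd_of_le (scalars_le_stabilizer hinj hN hEJ S)
          have hl0 : 0 < l := by
            rcases Nat.eq_zero_or_pos l with h | h
            · rw [h, mul_zero] at hl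
              exact absurd hl Nat.card_pos.ne'
            · exact h
          rw [hl, mul_comm N] at hS
          rw [hl, mul_comm D]
          refine mul_dvd_mul_left _ (dvd_trans (Nat.dvd_factorial hl0 ?_) (Dvd.intro_left _ hD))
          exact Nat.le_of_mul_le_mul_left (not_lt.1 hS) Nat.card_pos)
      rwa [← Finset.sum_filter, Finset.sum_const, smul_eq_mul, mul_comm
        (Finset.card _) (Nat.card (scalars ρ))] at h
    have hsplit := Finset.card_filter_add_card_filter_not (s := (Finset.univ : Finset (Cl ρ E)))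
      (fun S : Cl ρ E => N * Nat.card (scalars ρ) < Nat.card (MulAction.stabilizer G S))
    rw [Finset.card_univ] at hsplit
    have e1 := Int.natCast_dvd_natCast.2 hd1
    have e2 := Int.natCast_dvd_natCast.2 hd2
    have e3 := Int.natCast_dvd_natCast.2 hd3
    have e4 := congrArg (Nat.cast : ℕ → ℤ) hid
    have e5 := congrArg (Nat.cast : ℕ → ℤ) hsplit
    push_cast at e1 e2 e3 e4 e5 ⊢
    have h := dvd_sub (dvd_sub (dvd_add e1 e2) e3) (dvd_mul_left (Nat.card G : ℤ) (D : ℤ))
    refine h.trans (dvd_of_eq ?_)
    linear_combination (D : ℤ) * e4 - (D : ℤ) * (Nat.card (scalars ρ) : ℤ) * e5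
  · refine le_trans (Finset.sum_le_sum (g := fun S : Cl ρ E => β * (tset S).ncard) fun S _ => ?_) ?_
    · rw [hLB]
      exact Nat.mul_le_mul (hBi S) (hTB S)
    · rw [← Finset.mul_sum]
      calc β * _ ≤ β * (2 * Nat.card G) := Nat.mul_le_mul_left _ hST
        _ = _ := by ring
  · intro S hS
    refine ⟨B S, ⟨fun b hb g => hBn S g (hS ▸ Subgroup.mem_top g) b hb⟩,
      ⟨⟨fun a b => Subtype.ext (hBc S a a.2 b b.2)⟩⟩, ?_⟩
    have := hBi S
    rwa [hS, Subgroup.relIndex_top_right] at this

/-- The descent on the total weight of large stabilisers. -/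
theorem exists_bound (n J E : ℕ) (hEb : ((J * n ^ n).factorial).factorial ∣ E)
    (hEJ : J.factorial ∣ E) (hEp : p ^ m ∣ E) (hE0 : 0 < E) (k : ℕ) :
    ∀ N : ℕ, ∃ R : ℕ, ∀ (G : Type u) [Group G] [Finite G] (F : Type v) [Field F] [IsAlgClosed F]
      [CharP F p] (V : Type v) [AddCommGroup V] [Module F V] [FiniteDimensional F V] [Nontrivial V]
      (ρ : G →* Module.End F V), Function.Injective ρ → Module.finrank F V = n →
      (Nat.card G).factorization p ≤ m → Nice p ρ J →
      (∀ x : G, x ∉ scalars ρ → ∃ g, ¬ Commute g x) →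
      ∀ [Fintype (Cl ρ E)],
      (∑ S : Cl ρ E, if N * Nat.card (scalars ρ) < Nat.card (MulAction.stabilizer G S)
        then Nat.card (MulAction.stabilizer G S) else 0) ≤ k * Nat.card G →
      ∃ A : Subgroup G, A.Normal ∧ IsMulCommutative A ∧ A.index ≤ R := by
  classical
  set β := (J * n ^ n).factorial with hβ
  induction k with
  | zero =>
      intro N
      refine ⟨β.factorial * (strayBound n J E).factorial * N.factorial, ?_⟩
      intro G _ _ F _ _ _ V _ _ _ _ ρ hinj hn hm hN hcen _ hW
      obtain ⟨hdvd, -, -⟩ := step_facts n J E hEb hEJ hEp hE0 hinj hn hm hN hcen N _ rfl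
      have hempty : (Finset.univ.filter (fun S : Cl ρ E => N * Nat.card (scalars ρ) <
          Nat.card (MulAction.stabilizer G S))) = ∅ := by
        rw [Finset.filter_eq_empty_iff]
        intro S _ hS
        rw [zero_mul, Nat.le_zero, Finset.sum_eq_zero_iff] at hW
        have := hW S (Finset.mem_univ _)
        rw [if_pos hS] at this
        exact Nat.card_pos.ne' this
      exact of_dvd_scalars hinj _ (by positivity) (by
        rw [hempty, Finset.card_empty, Nat.cast_zero, zero_sub, mul_neg_one, dvd_neg] at hdvd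
        exact_mod_cast hdvd)
  | succ k ih =>
      intro N
      set D := β.factorial * (strayBound n J E).factorial * N.factorial with hD
      obtain ⟨R, hR⟩ := ih (max N (2 * β * D))
      refine ⟨max (max D β) R, ?_⟩
      intro G _ _ F _ _ _ V _ _ _ _ ρ hinj hn hm hN hcen _ hW
      obtain ⟨hdvd, hsum, htop⟩ := step_facts n J E hEb hEJ hEp hE0 hinj hn hm hN hcen N D rfl
      set big := Finset.univ.filter (fun S : Cl ρ E => N * Nat.card (scalars ρ) <
          Nat.card (MulAction.stabilizer G S)) with hbig
      have hmem : ∀ S, S ∈ big ↔ N * Nat.card (scalars ρ) < Nat.card (MulAction.stabilizer G S) :=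
        fun S => by simp [hbig]
      have hinv : ∀ (g : G) S, g • S ∈ big ↔ S ∈ big := fun g S => by
        rw [hmem, hmem, card_stabilizer_smul]
      rcases Nat.lt_or_ge big.card 2 with hlt | hge
      · rcases Nat.eq_zero_or_pos big.card with h0 | h0
        · obtain ⟨A, h1, h2, h3⟩ := of_dvd_scalars hinj D (by rw [hD]; positivity) (by
            rw [h0, Nat.cast_zero, zero_sub, mul_neg_one, dvd_neg] at hdvd
            exact_mod_cast hdvd)
          exact ⟨A, h1, h2, h3.trans (le_trans (le_max_left _ _) (le_max_left _ _))⟩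
        · obtain ⟨S, hS⟩ := Finset.card_eq_one.1 (show big.card = 1 by omega)
          obtain ⟨A, h1, h2, h3⟩ := htop S (eq_top_iff.2 fun g _ => by
            rw [MulAction.mem_stabilizer_iff]
            have := (hinv g S).2 (hS ▸ Finset.mem_singleton_self S)
            rwa [hS, Finset.mem_singleton] at this)
          exact ⟨A, h1, h2, h3.trans (le_trans (le_max_right _ _) (le_max_left _ _))⟩
      · obtain ⟨S0, hS0, hsmall⟩ : ∃ S ∈ big,
            Nat.card (MulAction.stabilizer G S) ≤ 2 * β * D * Nat.card (scalars ρ) := by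
          by_contra h
          have h1 : big.card • (2 * β * D * Nat.card (scalars ρ) + 1)
              ≤ ∑ S ∈ big, Nat.card (MulAction.stabilizer G S) :=
            Finset.card_nsmul_le_sum _ _ _ fun S hS => by
              by_contra h'
              exact h ⟨S, hS, by omega⟩
          have h2 := le_trans h1 (le_trans (Finset.sum_le_sum_of_subset (Finset.subset_univ _)) hsum)
          have h3 : Nat.card G ≤ D * Nat.card (scalars ρ) * (big.card - 1) := by
            refine Nat.le_of_dvd ?_ ?_
            · have hDpos : 0 < D := by rw [hD]; positivity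
              have : 0 < big.card - 1 := by omega
              have hz : 0 < Nat.card (scalars ρ) := Nat.card_pos
              positivity
            · rw [← Int.natCast_dvd_natCast]
              push_cast [Nat.cast_sub (show 1 ≤ big.card by omega)]
              exact hdvd
          have h4 : 2 * β * Nat.card G ≤ 2 * β * (D * Nat.card (scalars ρ) * (big.card - 1)) :=
            Nat.mul_le_mul_left _ h3
          rw [smul_eq_mul] at h2
          obtain ⟨c, hc⟩ : ∃ c, big.card = c + 1 := ⟨big.card - 1, by omega⟩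
          rw [hc, Nat.add_sub_cancel] at h4
          rw [hc] at h2
          nlinarith
        refine Exists.imp (fun A h => ⟨h.1, h.2.1, h.2.2.trans (le_max_right _ _)⟩)
          (hR G F V ρ hinj hn hm hN hcen ?_)
        have horb : ∑ S : Cl ρ E, (if S ∈ MulAction.orbit G S0
            then Nat.card (MulAction.stabilizer G S) else 0) = Nat.card G := by
          rw [← Finset.sum_filter]
          rw [Finset.sum_congr rfl (g := fun _ => Nat.card (MulAction.stabilizer G S0)) (fun S hS => by
            obtain ⟨g, rfl⟩ := (Finset.mem_filter.1 hS).2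
            exact card_stabilizer_smul g S0), Finset.sum_const, smul_eq_mul]
          have hc : (Finset.univ.filter (fun S : Cl ρ E => S ∈ MulAction.orbit G S0)).card
              = (MulAction.orbit G S0).ncard := by
            rw [← Set.ncard_coe_finset]
            congr 1
            ext
            simp
          rw [hc, ← MulAction.index_stabilizer, Subgroup.index_mul_card]
        have hle : (∑ S : Cl ρ E, if max N (2 * β * D) * Nat.card (scalars ρ)
              < Nat.card (MulAction.stabilizer G S) then Nat.card (MulAction.stabilizer G S) else 0)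
            + Nat.card G ≤ ∑ S : Cl ρ E, if N * Nat.card (scalars ρ)
              < Nat.card (MulAction.stabilizer G S) then Nat.card (MulAction.stabilizer G S) else 0 := by
          rw [← horb, ← Finset.sum_add_distrib]
          refine Finset.sum_le_sum fun S _ => ?_
          by_cases hS : S ∈ MulAction.orbit G S0
          · obtain ⟨g, rfl⟩ := hS
            have h1 : Nat.card (MulAction.stabilizer G (g • S0))
                ≤ max N (2 * β * D) * Nat.card (scalars ρ) := by
              rw [card_stabilizer_smul]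
              exact le_trans hsmall (Nat.mul_le_mul_right _ (le_max_right _ _))
            rw [if_neg (not_lt.2 h1), if_pos ⟨g, rfl⟩, if_pos ((hmem _).1 ((hinv g S0).2 hS0)),
              zero_add]
          · rw [if_neg hS, add_zero]
            by_cases h1 : max N (2 * β * D) * Nat.card (scalars ρ)
                < Nat.card (MulAction.stabilizer G S)
            · rw [if_pos h1, if_pos (lt_of_le_of_lt (Nat.mul_le_mul_right _ (le_max_left _ _)) h1)]
            · rw [if_neg h1]
              exact Nat.zero_le _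
        rw [add_mul, one_mul] at hW
        omega

end

/-- Jordan's bound in every degree. -/
theorem exists_jordan (p m n : ℕ) [Fact p.Prime] : ∃ J, ∀ k ≤ n, Bounded.{u, v} p m k J := by
  induction n with
  | zero =>
      refine ⟨1, fun k hk G _ _ F _ _ _ V _ _ _ ρ hinj hd _ => ⟨⊤, inferInstance, ⟨⟨fun a b => ?_⟩⟩, by simp⟩⟩
      have : Subsingleton V := Module.finrank_zero_iff.1 (by omega : Module.finrank F V = 0)
      exact Subtype.ext (hinj (Subsingleton.elim _ _))
  | succ n ih =>
      obtain ⟨J0, hJ0⟩ := ih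
      set J := p ^ m * (J0 * J0 * (p ^ m).factorial) * p ^ m with hJ
      set E := p ^ m * J.factorial * ((J * (n + 1) ^ (n + 1)).factorial).factorial with hE
      have hE0 : 0 < E := by
        have := (Fact.out : p.Prime).pos
        rw [hE]; positivity
      obtain ⟨R, hR⟩ := exists_bound.{u, v} (p := p) (m := m) (n + 1) J E ⟨p ^ m * J.factorial, by rw [hE]; ring⟩
        ⟨p ^ m * ((J * (n + 1) ^ (n + 1)).factorial).factorial, by rw [hE]; ring⟩
        ⟨J.factorial * ((J * (n + 1) ^ (n + 1)).factorial).factorial, by rw [hE]; ring⟩ hE0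
        (2 * (J * (n + 1) ^ (n + 1)).factorial) 0
      refine ⟨max (max J0 J) R, fun k hk G _ _ F _ _ _ V _ _ _ ρ hinj hd hm => ?_⟩
      rcases Nat.lt_or_ge n k with hlt | hge
      · have hk1 : k = n + 1 := by omega
        subst hk1
        haveI : Nontrivial V := Module.nontrivial_of_finrank_pos (R := F) (by omega)
        have hnice : Nice p ρ J := by
          intro x hx
          obtain ⟨W, hW0, hW1, hinv⟩ := exists_invariant ρ hx
          let C := Subgroup.centralizer ({x} : Set G)
          obtain ⟨A, hAn, hAc, hA⟩ := reducible hJ0 (ρ.comp C.subtype)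
            (hinj.comp C.subtype_injective) (by omega)
            (factorization_le_of_dvd hm (Subgroup.card_subgroup_dvd_card C)) W hW0 hW1
            (fun g => hinv g g.2)
          obtain ⟨B, hBn, hBc, hBp, hB⟩ := exists_coprime_part (p := p)
            (factorization_le_of_dvd hm (Subgroup.card_subgroup_dvd_card C)) A hAc
          exact ⟨B, hBn, hBc, hBp, hB.trans (by rw [hJ]; exact Nat.mul_le_mul_right _ hA)⟩
        by_cases hcen : ∀ x : G, x ∉ scalars ρ → ∃ g, ¬ Commute g x
        · classical
          haveI := Fintype.ofFinite (Cl ρ E)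
          obtain ⟨A, h1, h2, h3⟩ := hR G F V ρ hinj hd hm hnice hcen (by
            obtain ⟨-, hsum, -⟩ := step_facts (n + 1) J E ⟨p ^ m * J.factorial, by rw [hE]; ring⟩
              ⟨p ^ m * ((J * (n + 1) ^ (n + 1)).factorial).factorial, by rw [hE]; ring⟩
              ⟨J.factorial * ((J * (n + 1) ^ (n + 1)).factorial).factorial, by rw [hE]; ring⟩
              hE0 hinj hd hm hnice hcen 0 _ rfl
            refine le_trans (Finset.sum_le_sum fun S _ => ?_) hsum
            split_ifs <;> omega)
          exact ⟨A, h1, h2, h3.trans (le_max_right _ _)⟩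
        · simp only [not_forall, not_exists, not_not] at hcen
          obtain ⟨x, hx, hc⟩ := hcen
          obtain ⟨A, hAn, hAc, -, hA⟩ := hnice x hx
          have htop : Subgroup.centralizer ({x} : Set G) = ⊤ :=
            eq_top_iff.2 fun g _ => mem_centralizer_single.2 (hc g)
          let C := Subgroup.centralizer ({x} : Set G)
          refine ⟨A.map C.subtype, ⟨?_⟩, ⟨⟨fun a b => ?_⟩⟩, ?_⟩
          · rintro _ ⟨a, ha, rfl⟩ g
            exact ⟨⟨g, mem_centralizer_single.2 (hc g)⟩ * a *
              ⟨g, mem_centralizer_single.2 (hc g)⟩⁻¹, hAn.conj_mem a ha _, rfl⟩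
          · obtain ⟨_, a, ha, rfl⟩ := a
            obtain ⟨_, b, hb, rfl⟩ := b
            exact Subtype.ext (congrArg (fun t : A => ((t : C) : G))
              (mul_comm' (⟨a, ha⟩ : A) ⟨b, hb⟩))
          · have h1 : C.index = 1 := Subgroup.index_eq_one.2 htop
            rw [Subgroup.index_map_subtype, h1, mul_one]
            exact hA.trans (le_trans (le_max_right _ _) (le_max_left _ _))
      · obtain ⟨A, h1, h2, h3⟩ := hJ0 k hge G F V ρ hinj hd hm
        exact ⟨A, h1, h2, h3.trans (le_trans (le_max_left _ _) (le_max_left _ _))⟩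

end CfsgLib.ModularJordan
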