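import Cfsg.Agent.Lib.ModularJordan.Basic

/-! # Two eigenvalue counts, and a divisibility lemma for orbit sums. -/

set_option autoImplicit false

namespace CfsgLib.ModularJordan

theorem card_dvd_mul_sum {G α : Type*} [Group G] [Finite G] [MulAction G α] [Fintype α]
    (f : α → ℕ) (hf : ∀ (g : G) a, f (g • a) = f a) (D : ℕ)
    (h : ∀ a, Nat.card (MulAction.stabilizer G a) ∣ D * f a) : Nat.card G ∣ D * ∑ a, f a := by
  classical
  rw [← Finset.sum_fiberwise Finset.univ (fun a => (Quotient.mk (MulAction.orbitRel G α) a)) f,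
    Finset.mul_sum]
  refine Finset.dvd_sum fun ω _ => ?_
  obtain ⟨a0, rfl⟩ := Quotient.exists_rep ω
  have hmem : ∀ a, a ∈ MulAction.orbit G a0 ↔
      Quotient.mk (MulAction.orbitRel G α) a = Quotient.mk (MulAction.orbitRel G α) a0 := fun a => by
    rw [Quotient.eq, MulAction.orbitRel_apply]
  have hconst : ∀ a ∈ Finset.univ.filter (fun a => Quotient.mk (MulAction.orbitRel G α) a
      = Quotient.mk (MulAction.orbitRel G α) a0), f a = f a0 := by
    intro a ha
    obtain ⟨g, rfl⟩ := (hmem a).2 (Finset.mem_filter.1 ha).2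
    exact hf g a0
  rw [Finset.sum_congr rfl hconst, Finset.sum_const, smul_eq_mul]
  obtain ⟨q, hq⟩ := h a0
  have hc : (Finset.univ.filter (fun a => Quotient.mk (MulAction.orbitRel G α) a
      = Quotient.mk (MulAction.orbitRel G α) a0)).card = (MulAction.orbit G a0).ncard := by
    rw [← Set.ncard_coe_finset]
    congr 1
    ext a
    simp [hmem]
  rw [hc, ← mul_assoc, mul_comm D, mul_assoc, hq, ← MulAction.index_stabilizer, ← mul_assoc,
    Subgroup.index_mul_card]
  exact dvd_mul_right _ _

variable {p : ℕ} [Fact p.Prime] {G : Type*} [Group G] [Finite G]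
  {F V : Type*} [Field F] [IsAlgClosed F] [CharP F p] [AddCommGroup V] [Module F V]
  [FiniteDimensional F V]

theorem weight_ne_zero {ρ : G →* Module.End F V} {a : G} {v : V} {c : F} (hv : v ≠ 0)
    (h : ρ a v = c • v) : c ≠ 0 := by
  rintro rfl
  rw [zero_smul] at h
  apply hv
  calc v = ρ (a⁻¹ * a) v := by rw [inv_mul_cancel, map_one, Module.End.one_apply]
    _ = 0 := by rw [map_mul, Module.End.mul_apply, h, map_zero]

/-- Conjugates of a semisimple element that commute with one another are at most `n ^ n`. -/
theorem relIndex_centralizer_le (ρ : G →* Module.End F V) (hinj : Function.Injective ρ)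
    (L : Subgroup G) (w : G) (hw : ¬ p ∣ orderOf w)
    (hc : ∀ g ∈ L, ∀ h ∈ L, Commute (g * w * g⁻¹) (h * w * h⁻¹)) :
    (Subgroup.centralizer ({w} : Set G)).relIndex L
      ≤ Module.finrank F V ^ Module.finrank F V := by
  classical
  obtain ⟨b, μ, hb⟩ := exists_joint_basis (fun g : L => ρ ((g : G) * w * (g : G)⁻¹))
    (fun g h => (hc g g.2 h h.2).map ρ)
    (fun g => semisimple_of_coprime ρ _ (by
      have e : orderOf ((g : G) * w * (g : G)⁻¹) = orderOf w :=
        (MulAut.conj (g : G)).orderOf_eq w
      rw [e]; exact hw))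
  let R : Finset F := (ρ w).charpoly.roots.toFinset
  have hR : R.card ≤ Module.finrank F V := by
    refine le_trans (Multiset.toFinset_card_le _) (le_trans (Polynomial.card_roots' _) ?_)
    rw [LinearMap.charpoly_natDegree]
  have hmem : ∀ g k, μ g k ∈ R := by
    intro g k
    rw [Multiset.mem_toFinset, Polynomial.mem_roots (LinearMap.charpoly_monic _).ne_zero,
      ← Module.End.hasEigenvalue_iff_isRoot_charpoly]
    have h0 : ρ (g : G)⁻¹ (b k) ≠ 0 := fun h => b.ne_zero k (by
      have := congrArg (ρ (g : G)) h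
      rwa [← Module.End.mul_apply, ← map_mul, mul_inv_cancel, map_one, Module.End.one_apply,
        map_zero] at this)
    refine Module.End.hasEigenvalue_of_hasEigenvector (x := ρ (g : G)⁻¹ (b k))
      (Module.End.hasEigenvector_iff.2 ⟨Module.End.mem_eigenspace_iff.2 ?_, h0⟩)
    have := congrArg (ρ (g : G)⁻¹) (hb g k)
    rwa [map_smul, ← Module.End.mul_apply, ← map_mul,
      show (g : G)⁻¹ * ((g : G) * w * (g : G)⁻¹) = w * (g : G)⁻¹ by group, map_mul,
      Module.End.mul_apply] at this
  let C := (Subgroup.centralizer ({w} : Set G)).subgroupOf L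
  let φ : L ⧸ C → (Fin (Module.finrank F V) → R) := fun q k => ⟨μ q.out k, hmem _ _⟩
  have hφ : Function.Injective φ := by
    intro q r h
    have he : ρ ((q.out : G) * w * (q.out : G)⁻¹) = ρ ((r.out : G) * w * (r.out : G)⁻¹) := by
      refine b.ext fun k => ?_
      rw [hb, hb]
      exact congrArg (fun t : R => (t : F) • b k) (congrFun h k)
    have he' := hinj he
    rw [← QuotientGroup.out_eq' q, ← QuotientGroup.out_eq' r, QuotientGroup.eq,
      Subgroup.mem_subgroupOf, Subgroup.mem_centralizer_singleton_iff]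
    push_cast
    calc (q.out : G)⁻¹ * (r.out : G) * w
        = (q.out : G)⁻¹ * ((r.out : G) * w * (r.out : G)⁻¹) * (r.out : G) := by group
      _ = w * ((q.out : G)⁻¹ * (r.out : G)) := by rw [← he']; group
  refine le_trans (Nat.card_le_card_of_injective φ hφ) ?_
  rw [Nat.card_fun, Nat.card_fin, Nat.card_eq_finsetCard]
  exact Nat.pow_le_pow_left hR _

/-- An abelian group without `p`-torsion of exponent dividing `M` modulo scalars is small modulo
scalars. -/
theorem card_le_of_pow_mem_scalars [Nontrivial V] (ρ : G →* Module.End F V)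
    (hinj : Function.Injective ρ) (A : Subgroup G) (hc : ∀ a ∈ A, ∀ b ∈ A, Commute a b)
    (hp : ∀ a ∈ A, ¬ p ∣ orderOf a) (M : ℕ) (hM0 : 0 < M) (hM : ∀ a ∈ A, a ^ M ∈ scalars ρ) :
    Nat.card A ≤ Nat.card (scalars ρ) * M ^ Module.finrank F V := by
  classical
  haveI := Fintype.ofFinite G
  obtain ⟨b, μ, hb⟩ := exists_joint_basis (fun a : A => ρ (a : G))
    (fun a c => (hc a a.2 c c.2).map ρ) (fun a => semisimple_of_coprime ρ _ (hp a a.2))
  have hn : 0 < Module.finrank F V := Module.finrank_pos
  let k0 : Fin (Module.finrank F V) := ⟨0, hn⟩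
  let R : Finset F := (Polynomial.nthRoots M (1 : F)).toFinset
  have hmem : ∀ a k, μ a k / μ a k0 ∈ R := by
    intro a k
    rw [Multiset.mem_toFinset, Polynomial.mem_nthRoots hM0, div_pow, div_eq_one_iff_eq
      (pow_ne_zero _ (weight_ne_zero (b.ne_zero k0) (hb a k0)))]
    obtain ⟨c, hcM⟩ := hM a a.2
    have key : ∀ i, μ a i ^ M = c := by
      intro i
      have h1 : ∀ j : ℕ, ρ ((a : G) ^ j) (b i) = μ a i ^ j • b i := by
        intro j
        induction j with
        | zero => simp
        | succ j ih => rw [pow_succ', map_mul, Module.End.mul_apply, ih, map_smul, hb, smul_smul,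
            pow_succ]
      have h2 := h1 M
      rw [hcM, LinearMap.smul_apply, Module.End.one_apply] at h2
      exact (smul_left_injective F (b.ne_zero i) h2).symm
    rw [key, key]
  let r : A → (Fin (Module.finrank F V) → R) := fun a k => ⟨_, hmem a k⟩
  have h := Finset.card_le_mul_card_image (f := r) Finset.univ (Nat.card (scalars ρ)) (by
    intro x _
    by_cases hx : ∃ a, r a = x
    · obtain ⟨a0, ha0⟩ := hx
      rw [Nat.card_eq_fintype_card, ← Finset.card_univ]
      have hs : ∀ a, r a = x → ((a : G) * (a0 : G)⁻¹) ∈ scalars ρ := by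
        intro a ha
        refine ⟨μ a k0 / μ a0 k0, ?_⟩
        have e : ρ (a : G) = (μ a k0 / μ a0 k0) • ρ (a0 : G) := by
          refine b.ext fun k => ?_
          have h1 := congrArg Subtype.val (congrFun (ha.trans ha0.symm) k)
          simp only [r] at h1
          have h3 := weight_ne_zero (b.ne_zero k0) (hb a k0)
          have h4 := weight_ne_zero (b.ne_zero k0) (hb a0 k0)
          rw [LinearMap.smul_apply, hb, hb, smul_smul]
          congr 1
          rw [div_eq_div_iff h3 h4] at h1
          field_simp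
          linear_combination h1
        rw [map_mul, e, smul_mul_assoc, ← map_mul, mul_inv_cancel, map_one]
      refine Finset.card_le_card_of_injOn
        (fun a => if ha : r a = x then ⟨(a : G) * (a0 : G)⁻¹, hs a ha⟩ else 1)
        (fun _ _ => by simp) ?_
      intro a ha c hc' e
      simp only [Finset.coe_filter, Finset.mem_univ, true_and, Set.mem_setOf_eq] at ha hc'
      simp only [ha, hc', dite_true, Subtype.mk.injEq, mul_left_inj] at e
      exact Subtype.ext e
    · rw [Finset.filter_false_of_mem fun a _ e => hx ⟨a, e⟩]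
      simp)
  rw [Finset.card_univ, ← Nat.card_eq_fintype_card] at h
  refine le_trans h (Nat.mul_le_mul_left _ (le_trans (Finset.card_le_univ _) ?_))
  rw [Fintype.card_fun, Fintype.card_fin, Fintype.card_coe]
  exact Nat.pow_le_pow_left (le_trans (Multiset.toFinset_card_le _)
    (Polynomial.card_nthRoots _ _)) _

end CfsgLib.ModularJordan
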